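import Cfsg.Agent.SuzThree.ThreeWr
import Cfsg.Agent.H245.SuzInv

/-!
# S4816, `(B, 3)`: the box `suz_nine` (helper792)

`w` of order 9, `t` an involution which commutes with `w` in `Suz`: a 3-group which centralizes `w` and `t` has at most
9 elements.  (`C(t)` has a Sylow 3-subgroup of order 9 or `3 wr 3`.)
-/

set_option autoImplicit false
set_option maxRecDepth 100000

namespace Cfsg.Agent.H792.RIM

open Cfsg.Spor Cfsg.Agent.SuzThree.ThreeWr Cfsg.Agent.SuzThree.CentA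

/-- the model: exponents -/
abbrev E4 : Type := Fin 3 × Fin 3 × Fin 3 × Fin 3

/-- multiplication of the model -/
def mm (a b : E4) : E4 :=
  match a.2.2.2 with
  | 0 => (a.1 + b.1, a.2.1 + b.2.1, a.2.2.1 + b.2.2.1, a.2.2.2 + b.2.2.2)
  | 1 => (a.1 + b.2.2.1, a.2.1 + b.1, a.2.2.1 + b.2.1, a.2.2.2 + b.2.2.2)
  | 2 => (a.1 + b.2.1, a.2.1 + b.2.2.1, a.2.2.1 + b.1, a.2.2.2 + b.2.2.2)

/-- the element with given exponents -/
noncomputable def P (a : E4) : Suz := Pr a.1 a.2.1 a.2.2.1 a.2.2.2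

theorem w_mul (i j k : ℕ) : w * (y0 ^ i * y1 ^ j * y2 ^ k) = y0 ^ k * y1 ^ i * y2 ^ j * w := by
  have s0 : SemiconjBy w y0 y1 := wy0
  have s1 : SemiconjBy w y1 y2 := wy1
  have s2 : SemiconjBy w y2 y0 := wy2
  have c01 : Commute y0 y1 := c01
  have c02 : Commute y0 y2 := c02
  have h : w * (y0 ^ i * y1 ^ j * y2 ^ k) = y1 ^ i * y2 ^ j * y0 ^ k * w :=
    ((s0.pow_right i).mul_right (s1.pow_right j)).mul_right (s2.pow_right k)
  rw [h]
  have h1 : y2 ^ j * y0 ^ k = y0 ^ k * y2 ^ j := ((c02.pow_pow k j).eq).symm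
  have h2 : y1 ^ i * y0 ^ k = y0 ^ k * y1 ^ i := ((c01.pow_pow k i).eq).symm
  rw [mul_assoc (y1 ^ i), h1, ← mul_assoc (y1 ^ i), h2]

theorem e_mul (i j k i' j' k' : ℕ) : y0 ^ i * y1 ^ j * y2 ^ k * (y0 ^ i' * y1 ^ j' * y2 ^ k') =
    y0 ^ (i + i') * y1 ^ (j + j') * y2 ^ (k + k') := by
  have c01 : Commute y0 y1 := c01
  have c02 : Commute y0 y2 := c02
  have c12 : Commute y1 y2 := c12
  have h1 : y2 ^ k * y0 ^ i' = y0 ^ i' * y2 ^ k := ((c02.pow_pow i' k).eq).symm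
  have h2 : y1 ^ j * y0 ^ i' = y0 ^ i' * y1 ^ j := ((c01.pow_pow i' j).eq).symm
  have h3 : y2 ^ k * y1 ^ j' = y1 ^ j' * y2 ^ k := ((c12.pow_pow j' k).eq).symm
  calc y0 ^ i * y1 ^ j * y2 ^ k * (y0 ^ i' * y1 ^ j' * y2 ^ k')
      = y0 ^ i * y1 ^ j * (y2 ^ k * y0 ^ i') * y1 ^ j' * y2 ^ k' := by simp only [mul_assoc]
    _ = y0 ^ i * (y1 ^ j * y0 ^ i') * (y2 ^ k * y1 ^ j') * y2 ^ k' := by rw [h1]; simp only [mul_assoc]
    _ = _ := by rw [h2, h3, pow_add, pow_add, pow_add]; simp only [mul_assoc]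

theorem Pr_mul_zero (i j k i' j' k' l' : ℕ) : Pr i j k 0 * Pr i' j' k' l' = Pr (i + i') (j + j') (k + k') l' := by
  rw [Pr, Pr, Pr, pow_zero, mul_one, ← mul_assoc, e_mul]

theorem Pr_mul_one (i j k i' j' k' l' : ℕ) :
    Pr i j k 1 * Pr i' j' k' l' = Pr (i + k') (j + i') (k + j') (1 + l') := by
  calc Pr i j k 1 * Pr i' j' k' l'
      = y0 ^ i * y1 ^ j * y2 ^ k * (w * (y0 ^ i' * y1 ^ j' * y2 ^ k')) * w ^ l' := by
        simp only [Pr, pow_one, mul_assoc]
    _ = y0 ^ i * y1 ^ j * y2 ^ k * (y0 ^ k' * y1 ^ i' * y2 ^ j') * (w * w ^ l') := by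
        rw [w_mul]
        simp only [mul_assoc]
    _ = _ := by rw [e_mul, ← pow_succ', Pr, add_comm 1 l']

theorem Pr_mul_two (i j k i' j' k' l' : ℕ) :
    Pr i j k 2 * Pr i' j' k' l' = Pr (i + j') (j + k') (k + i') (2 + l') := by
  have h : Pr i j k 2 = Pr i j k 1 * Pr 0 0 0 1 := (Pr_mul_one i j k 0 0 0 1).symm
  rw [h, mul_assoc, Pr_mul_one, Pr_mul_one, zero_add, zero_add, zero_add, ← add_assoc]

theorem P_mod (i j k l : ℕ) : Pr i j k l = P (Fin.ofNat 3 i, Fin.ofNat 3 j, Fin.ofNat 3 k, Fin.ofNat 3 l) :=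
  Pr_mod i j k l

theorem P_mm (a b : E4) : P a * P b = P (mm a b) := by
  obtain ⟨i, j, k, l⟩ := a
  obtain ⟨i', j', k', l'⟩ := b
  fin_cases l
  · show Pr i j k 0 * Pr i' j' k' l' = _
    rw [Pr_mul_zero, P_mod]
    congr 1
    simp [mm, Fin.ofNat, Fin.ext_iff, Fin.val_add]
  · show Pr i j k 1 * Pr i' j' k' l' = _
    rw [Pr_mul_one]
    exact P_mod _ _ _ _
  · show Pr i j k 2 * Pr i' j' k' l' = _
    rw [Pr_mul_two]
    exact P_mod _ _ _ _

theorem P_mem (a : E4) : P a ∈ S3 :=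
  S3.mul_mem (S3.mul_mem (S3.mul_mem (S3.pow_mem y0_mem _) (S3.pow_mem y1_mem _)) (S3.pow_mem y2_mem _))
    (S3.pow_mem w_mem _)

theorem P_bij : Function.Bijective (fun a : E4 => (⟨P a, P_mem a⟩ : S3)) := by
  have h1 : Function.Surjective (fun a : E4 => (⟨P a, P_mem a⟩ : S3)) := by
    rintro ⟨s, hs⟩
    obtain ⟨i, j, k, l, rfl⟩ := exists_Pr hs
    exact ⟨_, Subtype.ext (P_mod i j k l).symm⟩
  have hfin : Finite S3 := Nat.finite_of_card_ne_zero (by rw [card_S3]; norm_num)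
  refine (Nat.bijective_iff_surjective_and_card _).2 ⟨h1, ?_⟩
  rw [card_S3, Nat.card_eq_fintype_card]
  rfl

theorem P_inj {a b : E4} (h : P a = P b) : a = b := P_bij.1 (Subtype.ext h)

theorem count : ∀ a : E4, mm (mm a a) a ≠ (0, 0, 0, 0) →
    (Finset.univ.filter fun b : E4 => mm b a = mm a b).card ≤ 9 := by
  decide +kernel

/-- **a 3-group in `S3` which centralizes an element of order 9** -/
theorem card_le_S3 {s : Suz} (hs : s ∈ S3) (h3 : s ^ 3 ≠ 1) (A : Subgroup Suz) (hA : A ≤ S3)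
    (hc : ∀ a ∈ A, a * s = s * a) : Nat.card A ≤ 9 := by
  obtain ⟨a, ha⟩ := P_bij.2 ⟨s, hs⟩
  have ha' : P a = s := congrArg Subtype.val ha
  have h1 : mm (mm a a) a ≠ (0, 0, 0, 0) := by
    intro h
    apply h3
    rw [pow_succ, pow_two, ← ha', P_mm, P_mm, h]
    show Pr 0 0 0 0 = 1
    simp [Pr]
  refine le_trans ?_ (count a h1)
  rw [← Fintype.card_coe, ← Nat.card_eq_fintype_card]
  have hx : ∀ c : A, ∃ b : E4, P b = c ∧ mm b a = mm a b := fun c => by
    obtain ⟨b, hb⟩ := P_bij.2 ⟨c, hA c.2⟩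
    have hb' : P b = c := congrArg Subtype.val hb
    refine ⟨b, hb', P_inj ?_⟩
    rw [← P_mm, ← P_mm, ha', hb']
    exact hc c c.2
  choose f hf1 hf2 using hx
  refine Nat.card_le_card_of_injective (fun c => (⟨f c, by simp [hf2 c]⟩ :
    {b : E4 // b ∈ Finset.univ.filter fun b : E4 => mm b a = mm a b})) fun c c' h => ?_
  have h5 : f c = f c' := congrArg Subtype.val h
  apply Subtype.ext
  rw [← hf1 c, ← hf1 c', h5]

/-- the bound for the class of `a` -/
theorem bound_C1 {s : Suz} (hs : s ∈ C1) (hs9 : orderOf s = 9) (A : Subgroup Suz) (hA : IsPGroup 3 A) (hAC : A ≤ C1)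
    (hc : ∀ a ∈ A, a * s = s * a) : Nat.card A ≤ 9 := by
  have h3 : Fact (Nat.Prime 3) := ⟨Nat.prime_three⟩
  have hcard : Nat.card C1 = 3317760 := KFacts.SuzCent.card_C1
  have hfC : Finite C1 := Nat.finite_of_card_ne_zero (by rw [hcard]; norm_num)
  have hs3 : IsPGroup 3 (Subgroup.zpowers s) := by
    rw [IsPGroup.iff_card]
    exact ⟨2, by rw [Nat.card_zpowers, hs9]; norm_num⟩
  have hn : Subgroup.zpowers s ≤ Subgroup.normalizer (A : Set Suz) := by
    rw [Subgroup.zpowers_le]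
    refine Subgroup.mem_normalizer_iff.2 fun a => ?_
    constructor
    · intro ha
      rw [← hc a ha, mul_inv_cancel_right]
      exact ha
    · intro ha
      have h4 := hc _ ha
      rw [mul_assoc, inv_mul_cancel, mul_one, ← mul_assoc] at h4
      have h5 : s * a * s⁻¹ = a := by
        have h6 : s * a = s * (s * a * s⁻¹) := by
          rw [← mul_assoc]
          exact h4
        exact (mul_left_cancel h6).symm
      rwa [h5] at ha
  have hH : IsPGroup 3 (A ⊔ Subgroup.zpowers s : Subgroup Suz) := hA.to_sup_of_normal_left' hs3 hn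
  have hle : A ⊔ Subgroup.zpowers s ≤ C1 := sup_le hAC (by rwa [Subgroup.zpowers_le])
  obtain ⟨Q, hQ⟩ := (hH.comap_of_injective C1.subtype Subtype.val_injective).exists_le_sylow
  have hS : IsPGroup 3 (S3.subgroupOf C1) := by
    rw [IsPGroup.iff_card]
    exact ⟨4, by rw [Nat.card_congr (Subgroup.subgroupOfEquivOfLe S3_le).toEquiv, card_S3]; norm_num⟩
  have hmax : ¬ 3 ∣ (S3.subgroupOf C1).index := by
    have h5 := (S3.subgroupOf C1).card_mul_index
    rw [Nat.card_congr (Subgroup.subgroupOfEquivOfLe S3_le).toEquiv, card_S3, hcard] at h5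
    have h6 : (S3.subgroupOf C1).index = 40960 := by omega
    rw [h6]
    norm_num
  let T : Sylow 3 C1 := hS.toSylow hmax
  obtain ⟨g, hg⟩ := MulAction.exists_smul_eq C1 Q T
  have hmv : ∀ x ∈ A ⊔ Subgroup.zpowers s, (g : Suz) * x * (g : Suz)⁻¹ ∈ S3 := by
    intro x hx
    have h5 : (⟨x, hle hx⟩ : C1) ∈ (Q : Subgroup C1) := hQ (Subgroup.mem_subgroupOf.2 hx)
    have h6 : g * ⟨x, hle hx⟩ * g⁻¹ ∈ (T : Subgroup C1) := by
      rw [← hg]
      exact Subgroup.smul_mem_pointwise_smul (⟨x, hle hx⟩ : C1) (MulAut.conj g) (Q : Subgroup C1) h5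
    exact Subgroup.mem_subgroupOf.1 h6
  have h7 : Nat.card (A.map (MulAut.conj (g : Suz)).toMonoidHom) = Nat.card A :=
    Nat.card_congr ((MulAut.conj (g : Suz)).subgroupMap A).toEquiv.symm
  rw [← h7]
  refine card_le_S3 (s := (g : Suz) * s * (g : Suz)⁻¹) (hmv s (Subgroup.mem_sup_right (Subgroup.mem_zpowers s))) ?_ _ ?_ ?_
  · intro h
    rw [conj_pow] at h
    have h8 : s ^ 3 = 1 := by
      have := conj_eq_one_iff.1 h
      exact this
    have h9 := orderOf_dvd_of_pow_eq_one h8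
    rw [hs9] at h9
    norm_num at h9
  · rintro _ ⟨a, ha, rfl⟩
    exact hmv a (Subgroup.mem_sup_left ha)
  · rintro _ ⟨a, ha, rfl⟩
    show (g : Suz) * a * (g : Suz)⁻¹ * ((g : Suz) * s * (g : Suz)⁻¹) =
      (g : Suz) * s * (g : Suz)⁻¹ * ((g : Suz) * a * (g : Suz)⁻¹)
    calc (g : Suz) * a * (g : Suz)⁻¹ * ((g : Suz) * s * (g : Suz)⁻¹) = (g : Suz) * (a * s) * (g : Suz)⁻¹ := by group
      _ = (g : Suz) * (s * a) * (g : Suz)⁻¹ := by rw [hc a ha]
      _ = _ := by group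

theorem suz_nine {w t : Spor.Suz} (hw : orderOf w = 9) (ht : orderOf t = 2) (hwt : w * t = t * w)
    (A : Subgroup Spor.Suz) (hA : IsPGroup 3 A) (hAw : ∀ a ∈ A, a * w = w * a) (hAt : ∀ a ∈ A, a * t = t * a) :
    Nat.card A ≤ 9 := by
  have ht1 : t ≠ 1 := by
    rintro rfl
    rw [orderOf_one] at ht
    norm_num at ht
  have ht2 : t * t = 1 := by rw [← pow_two, ← ht, pow_orderOf_eq_one]
  have hAC : A ≤ Subgroup.centralizer ({t} : Set Suz) := fun a ha =>
    Subgroup.mem_centralizer_singleton_iff.2 (hAt a ha)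
  rcases SporRec.SuzCl.two t ht2 ht1 with ⟨g, hg⟩ | ⟨g, hg⟩
  · have hz : SporRec.SuzCl.ia = SuzThree.CentA.z0 := KFacts.SuzY.z0_eq.symm
    rw [hz] at hg
    have hmem : ∀ x : Suz, x * t = t * x → g⁻¹ * x * g ∈ C1 := fun x hx => by
      rw [mem_C1]
      rw [← hg] at hx
      calc g⁻¹ * x * g * SuzThree.CentA.z0
          = g⁻¹ * (x * (g * SuzThree.CentA.z0 * g⁻¹)) * g := by group
        _ = g⁻¹ * (g * SuzThree.CentA.z0 * g⁻¹ * x) * g := by rw [hx]
        _ = _ := by group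
    have h7 : Nat.card (A.map (MulAut.conj g⁻¹).toMonoidHom) = Nat.card A :=
      Nat.card_congr ((MulAut.conj g⁻¹).subgroupMap A).toEquiv.symm
    have hconj : ∀ x : Suz, MulAut.conj g⁻¹ x = g⁻¹ * x * g := fun x => by
      rw [MulAut.conj_apply, inv_inv]
    rw [← h7]
    refine bound_C1 (s := g⁻¹ * w * g) (hmem w hwt) ?_ _ ?_ ?_ ?_
    · rw [← hw, ← hconj]
      exact orderOf_injective (MulAut.conj g⁻¹).toMonoidHom (MulAut.conj g⁻¹).injective w
    · exact hA.map _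
    · rintro _ ⟨a, ha, rfl⟩
      show MulAut.conj g⁻¹ a ∈ C1
      rw [hconj]
      exact hmem a (hAt a ha)
    · rintro _ ⟨a, ha, rfl⟩
      show MulAut.conj g⁻¹ a * _ = _ * MulAut.conj g⁻¹ a
      rw [hconj]
      calc g⁻¹ * a * g * (g⁻¹ * w * g) = g⁻¹ * (a * w) * g := by group
        _ = g⁻¹ * (w * a) * g := by rw [hAw a ha]
        _ = _ := by group
  · have hc : Nat.card (Subgroup.centralizer ({t} : Set Suz)) = 161280 := by
      have h3 : SporRec.SuzCl.ie = KFacts.SuzLFour.e0 := by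
        show (PresentedGroup.of Suz.Gen.e : Suz) = SporadicRecognition.SuzOrder.el [Suz.Gen.e]
        unfold SporadicRecognition.SuzOrder.el
        rw [List.map_cons, List.map_nil, List.prod_cons, List.prod_nil, mul_one]
      rw [h3] at hg
      rw [← hg, SigZeroSuz.Row.card_conj]
      exact KFacts.SuzTwoB.card_CE
    have hfC : Finite (Subgroup.centralizer ({t} : Set Suz)) := Nat.finite_of_card_ne_zero (by rw [hc]; norm_num)
    have h5 := Subgroup.card_dvd_of_le hAC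
    rw [hc] at h5
    have h3 : Fact (Nat.Prime 3) := ⟨Nat.prime_three⟩
    have hfA : Finite A := Finite.of_injective _ (Subgroup.inclusion_injective hAC)
    obtain ⟨k, hk⟩ := IsPGroup.iff_card.1 hA
    rw [hk] at h5 ⊢
    by_contra h6
    have h7 : 3 ≤ k := by
      by_contra h8
      have h9 : k ≤ 2 := by omega
      exact h6 (Nat.pow_le_pow_right (by norm_num) h9)
    have h8 : 3 ^ 3 ∣ 161280 := (pow_dvd_pow 3 h7).trans h5
    norm_num at h8

end Cfsg.Agent.H792.RIM
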