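import Cfsg.Agent.S0028
import Cfsg.Agent.NotCT.Orders
import Cfsg.Agent.H844.Ore.BInv
import Cfsg.Agent.H810.RIM.BCent
import Cfsg.Agent.H680.PQR.BEleven
import Cfsg.Agent.H630.NHBaby
import Cfsg.Agent.H139.LD.Struct13
import Cfsg.Agent.H979.OddB
import Cfsg.Agent.H852.IMSuz

/-!
# S4816, `(B, 3)`: the centralizer of an element of order 27 is a 3-group (helper792)

`card_pow` : Thompson's `P × Q` lemma for `⟨x⟩ × ⟨s⟩` acting on the 3-group `E`, and the 3-parts of the centralizers of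
the elements of prime order of the Baby Monster.
-/

set_option autoImplicit false
set_option maxRecDepth 100000

namespace Cfsg.Agent.H792.RIM

open Cfsg Subgroup

universe u

theorem cent_eleven {L : Type u} [Group L] [Finite L] (h : Spor.IsoB L) {y : L} (hy : orderOf y = 11) :
    Nat.card ↥(centralizer ({y} : Set L)) ≤ 1320 := by
  obtain ⟨t, x, ht, hx, hxt, hc⟩ := Cfsg.Agent.H630.Baby.exists_lift_card h (by norm_num) (by norm_num) hy
  have hfin : Finite Cfsg.Agent.H630.Baby.Mon := Cfsg.Agent.MThirteen.Row.finite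
  have h1 := Cfsg.Agent.H680.PQR.eleven_pair (y := x) (t := t) hx (Cfsg.Agent.MThirteen.Row.ta_order ht) hxt.symm
  have h2 : Nat.card ↥(Cfsg.Agent.LThreeB.XT x t) ≤
      Nat.card ↥(centralizer ({x} : Set Cfsg.Agent.H630.Baby.Mon) ⊓ centralizer ({t} : Set Cfsg.Agent.H630.Baby.Mon) :
        Subgroup Cfsg.Agent.H630.Baby.Mon) := by
    refine Subgroup.card_le_of_le ?_
    intro g hg
    exact ⟨mem_centralizer_singleton_iff.2 (Cfsg.Agent.LThreeB.mem_XT.1 hg).1,
      mem_centralizer_singleton_iff.2 (Cfsg.Agent.LThreeB.mem_XT.1 hg).2⟩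
  have h3 := h2.trans h1
  rw [hc] at h3
  omega

/-- `3 ^ 10` does not divide the order of the centralizer of an element `s` of prime order `≠ 3`, which commutes with
an element of order 3 -/
theorem not_ten {L : Type u} [Group L] [Finite L] (h : Spor.IsoB L) {s t : L} {r : ℕ} (hr : r.Prime) (hr3 : r ≠ 3)
    (hs : orderOf s = r) (ht : orderOf t = 3) (hst : t * s = s * t) :
    ¬ 3 ^ 10 ∣ Nat.card (centralizer ({s} : Set L)) := by
  intro hd
  have hc : Nat.card L = 4154781481226426191177580544000000 := NotCT.Orders.b h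
  have hm : r ∈ [2, 3, 5, 7, 11, 13, 17, 19, 23, 31, 47] :=
    H852.IMSuz.prime_cases' hr [2, 3, 5, 7, 11, 13, 17, 19, 23, 31, 47] (by decide) 41 (n := Nat.card L)
      (hs ▸ orderOf_dvd_natCard s) (by rw [hc]; norm_num)
  have hpos : 0 < Nat.card (centralizer ({s} : Set L)) := Nat.card_pos
  have hle := Nat.le_of_dvd hpos hd
  simp only [List.mem_cons, List.not_mem_nil, or_false] at hm
  rcases hm with e | e | e | e | e | e | e | e | e | e | e
  · exact H844.Ore.BInv.not_three_B h (by rw [hs, e]) hd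
  · exact hr3 e
  · rcases H810.RIM.BCent.five_dvd h (y := s) (by rw [hs, e]) with h1 | h1 | h1
    · have h2 := (hd.trans (Dvd.intro _ rfl)).trans h1
      norm_num at h2
    · have h2 := (hd.trans (Dvd.intro _ rfl)).trans h1
      norm_num at h2
    · have h2 := (hd.trans (Dvd.intro _ rfl)).trans h1
      norm_num at h2
  · have h2 := hd.trans (H810.RIM.BCent.seven_dvd h (y := s) (by rw [hs, e]))
    norm_num at h2
  · have h2 := cent_eleven h (y := s) (by rw [hs, e])
    norm_num at hle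
    omega
  · have h2 := (H139.LD.struct13 h (x := s) (by rw [hs, e])).1
    rw [h2] at hle
    norm_num at hle
  · exact H979.OddB.nadj3 h (q := 17) (by simp) ht (by rw [hs, e]) hst
  · exact H979.OddB.nadj3 h (q := 19) (by simp) ht (by rw [hs, e]) hst
  · exact H979.OddB.nadj3 h (q := 23) (by simp) ht (by rw [hs, e]) hst
  · exact H979.OddB.nadj3 h (q := 31) (by simp) ht (by rw [hs, e]) hst
  · exact H979.OddB.nadj3 h (q := 47) (by simp) ht (by rw [hs, e]) hst

theorem card_pow {L : Type u} [Group L] [Finite L] (h : Spor.IsoB L) {x : L} (hx : orderOf x = 27) {E : Subgroup L}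
    (hE : IsPGroup 3 E) (hc : 3 ^ 9 ∣ Nat.card E) (hexp : ∀ e ∈ E, e ^ 3 = 1)
    (hn : ∀ g : L, g * x ^ 9 = x ^ 9 * g → ∀ e ∈ E, g * e * g⁻¹ ∈ E)
    (hfix : ∀ e ∈ E, x * e = e * x → e ∈ Subgroup.zpowers (x ^ 9)) :
    ∃ n, Nat.card (Subgroup.centralizer ({x} : Set L)) = 3 ^ n := by
  have h3 : Fact (Nat.Prime 3) := ⟨Nat.prime_three⟩
  refine ⟨_, Nat.eq_prime_pow_of_unique_prime_dvd Nat.card_pos.ne' fun {r} hr hd => ?_⟩
  by_contra hr3
  have hF : Fact r.Prime := ⟨hr⟩
  obtain ⟨⟨s, hsx⟩, hs⟩ := exists_prime_orderOf_dvd_card' r hd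
  have hs' : orderOf s = r := by rw [← hs, Subgroup.orderOf_mk]
  have hsx' : s * x = x * s := mem_centralizer_singleton_iff.1 hsx
  have hcs : Commute s x := hsx'
  have hnor : ∀ g : L, g * x ^ 9 = x ^ 9 * g → g ∈ normalizer (E : Set L) := fun g hg => by
    have hg' : g⁻¹ * x ^ 9 = x ^ 9 * g⁻¹ := (show Commute g (x ^ 9) from hg).inv_left.eq
    refine mem_normalizer_iff.2 fun e => ⟨fun he => hn g hg e he, fun he => ?_⟩
    have h1 := hn g⁻¹ hg' _ he
    rwa [show g⁻¹ * (g * e * g⁻¹) * g⁻¹⁻¹ = e by group] at h1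
  have hxn : x ∈ normalizer (E : Set L) := hnor x ((Commute.refl x).pow_right 9).eq
  have hsn : s ∈ normalizer (E : Set L) := hnor s (hcs.pow_right 9).eq
  have hPx : IsPGroup 3 (zpowers x) := by
    rw [IsPGroup.iff_card]
    exact ⟨3, by rw [Nat.card_zpowers, hx]; norm_num⟩
  have hcent : zpowers s ≤ centralizer (E : Set L) := by
    refine S0028.result 3 (zpowers x) (zpowers s) E hPx ?_ hE ?_ (zpowers_le.2 hxn) (zpowers_le.2 hsn) ?_
    · rw [Nat.card_zpowers, hs']
      exact (Nat.coprime_primes hr Nat.prime_three).2 hr3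
    · rw [zpowers_le, mem_centralizer_iff]
      rintro _ ⟨k, rfl⟩
      exact (hcs.zpow_left k).eq
    · rintro e ⟨he, hex⟩
      have h1 : x * e = e * x := (mem_centralizer_iff.1 hex) x (mem_zpowers x)
      obtain ⟨k, hk⟩ := mem_zpowers_iff.1 (hfix e he h1)
      rw [mem_centralizer_iff]
      rintro _ ⟨j, rfl⟩
      rw [← hk]
      exact (((hcs.pow_right 9).zpow_right k).zpow_left j).eq
  have hEs : E ≤ centralizer ({s} : Set L) := fun e he =>
    mem_centralizer_singleton_iff.2 ((mem_centralizer_iff.1 (hcent (mem_zpowers s))) e he)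
  have hxs : zpowers x ≤ centralizer ({s} : Set L) := by
    rw [zpowers_le]
    exact mem_centralizer_singleton_iff.2 hsx'.symm
  have hH : IsPGroup 3 (E ⊔ zpowers x : Subgroup L) := hE.to_sup_of_normal_left' hPx (zpowers_le.2 hxn)
  obtain ⟨a, ha⟩ := IsPGroup.iff_card.1 hE
  obtain ⟨m, hm⟩ := IsPGroup.iff_card.1 hH
  have ha9 : 9 ≤ a := by
    rw [ha] at hc
    exact (Nat.pow_dvd_pow_iff_le_right (by norm_num)).1 hc
  have hlt : E < E ⊔ zpowers x := by
    refine lt_of_le_of_ne le_sup_left fun h4 => ?_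
    have h5 : x ∈ E := by
      rw [h4]
      exact mem_sup_right (mem_zpowers x)
    have h6 := orderOf_dvd_of_pow_eq_one (hexp x h5)
    rw [hx] at h6
    norm_num at h6
  have hcard : Nat.card E < Nat.card (E ⊔ zpowers x : Subgroup L) := by
    refine lt_of_le_of_ne (card_le_of_le hlt.le) fun h4 => hlt.ne ?_
    exact eq_of_le_of_card_ge hlt.le h4.ge
  have hm10 : 10 ≤ m := by
    rw [ha, hm] at hcard
    have := (Nat.pow_lt_pow_iff_right (by norm_num : 1 < 3)).1 hcard
    omega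
  have hx9 : orderOf (x ^ 9) = 3 := by
    rw [orderOf_pow, hx]
    norm_num
  refine not_ten h hr hr3 hs' hx9 (hcs.pow_right 9).eq.symm ?_
  refine Dvd.dvd.trans ?_ (card_dvd_of_le (sup_le hEs hxs))
  rw [hm]
  exact pow_dvd_pow 3 hm10

end Cfsg.Agent.H792.RIM
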